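import Groth.Agent.L21.RedCurve.Basic
import Groth.Agent.L03.ShStab.QuadricCoh
import Groth.Agent.L04.KSh.Div.Cartesian
import Groth.Agent.L12.IntSh.Vanish
import Groth.Agent.L02.Quot.ProjTotal
import Groth.Agent.L18.RelProjCounit
import Groth.Agent.L13.PointBlow.Acyclic
import Groth.Agent.L22.CurveDeg.ZeroDim
import Groth.Agent.S10945

/-!
Global generation and the vanishing of `H¹` after twisting, on curves.
-/

set_option autoImplicit false
set_option backward.isDefEq.respectTransparency false
set_option linter.style.haveILetI false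
universe u

open CategoryTheory CategoryTheory.Limits AlgebraicGeometry TopologicalSpace Opposite

noncomputable section

namespace Groth.L21.DefAmple

open Groth.L16.CohLinear (hmap)
open Groth.L00.Tensor (tensorIso tensorAssoc tensorComm tensorUnitLeft tensorUnitRight tensorRightF tensorMap)
open Groth.L21.RR (SuppClosed e0 e0_hmap)

variable {X : Scheme.{u}}

theorem subsingleton_HH_of_iso {M N : X.Modules} (e : M ≅ N) (p : ℕ) (h : Subsingleton (Coh.HH X M p)) :
    Subsingleton (Coh.HH X N p) :=
  haveI := h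
  Function.Surjective.subsingleton (f := hmap e.hom p) fun y =>
    ⟨hmap e.inv p y, by rw [← Groth.L16.CohLinear.hmap_comp, Iso.inv_hom_id, Groth.L16.CohLinear.hmap_id]⟩

/-- A tensor with a finite free module is globally generated when the other factor is. -/
theorem gg_sigma_tensor {F : X.Modules} (hF : Curv2.IsGloballyGenerated F) (b : ℕ) :
    Curv2.IsGloballyGenerated (CohB1.tensorMod (∐ fun _ : Fin b => Coh.structureModule X) F) := by
  refine Groth.L18.Ample.isGloballyGenerated_of_kills _ fun G g hg => ?_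
  let M := fun _ : Fin b => Coh.structureModule X
  obtain ⟨pr, hid, -⟩ := Groth.L03.ShStab.QuadricCoh.id_sigma M
  haveI : PreservesColimits (tensorRightF F) := Groth.L00.Tensor.preservesColimits_tensorRightF _
  haveI : PreservesFiniteCoproducts (tensorRightF F) := inferInstance
  haveI := preservesBinaryBiproducts_of_preservesBinaryCoproducts (tensorRightF F)
  haveI : (tensorRightF F).Additive := Functor.additive_of_preservesBinaryBiproducts _
  have hc : ∀ j, (tensorRightF F).map (Sigma.ι M j) ≫ g = 0 := fun j => by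
    have h1 : (tensorUnitLeft F).inv ≫ (tensorRightF F).map (Sigma.ι M j) ≫ g = 0 :=
      Groth.Agent.S10945.eq_zero_of_kills hF _ fun t => by
        rw [← Category.assoc, Scheme.Modules.Hom.comp_app, ConcreteCategory.comp_apply]
        exact hg _
    exact ((Iso.inv_comp_eq _).1 h1).trans comp_zero
  have h2 : g = (tensorRightF F).map (𝟙 (∐ M)) ≫ g := by
    rw [CategoryTheory.Functor.map_id]; exact (Category.id_comp g).symm
  rw [h2, hid, Functor.map_sum, Preadditive.sum_comp]
  refine Finset.sum_eq_zero fun j _ => ?_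
  rw [Functor.map_comp, Category.assoc, hc j, comp_zero]

variable [AlgebraicGeometry.IsNoetherian X] (hd : topologicalKrullDim X ≤ 1)

include hd in
/-- The first cohomology of the middle term of an exact sequence vanishes with that of the outer ones. -/
theorem subsingleton_h1_of_exact {A B C : X.Modules} (f : A ⟶ B) (g : B ⟶ C) (w : f ≫ g = 0)
    (h : (ShortComplex.mk f g w).Exact) [Epi g] (hA : Subsingleton (Coh.HH X A 1))
    (hC : Subsingleton (Coh.HH X C 1)) : Subsingleton (Coh.HH X B 1) := by
  let S : ShortComplex X.Modules := ShortComplex.mk (kernel.ι g) g (kernel.condition g)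
  have hS : S.ShortExact :=
    { exact := ShortComplex.exact_of_f_is_kernel _ (kernelIsKernel g) }
  haveI : Epi (kernel.lift g f w) := h.epi_kernelLift
  haveI := hA
  haveI := hC
  haveI : Subsingleton (Coh.HH X (kernel g) 1) :=
    (Groth.L21.RedCurve.surjective_hmap_one_of_epi hd (kernel.lift g f w)).subsingleton
  refine ⟨fun x y => ?_⟩
  suffices key : ∀ z : Coh.HH X B 1, z = 0 by rw [key x, key y]
  intro z
  obtain ⟨a, ha⟩ := (Groth.L16.CohLinear.exact_hmap_hmap hS 1 z).1 (Subsingleton.elim (α := Coh.HH X C 1) _ _)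
  rw [← ha, Subsingleton.elim (α := Coh.HH X (kernel g) 1) a 0, map_zero]

include hd in
/-- Tensoring with a quotient of a free module preserves the vanishing of the first cohomology. -/
theorem subsingleton_h1_gg_tensor {E F : X.Modules} (hE : Coh.IsCoh E) (hgg : Curv2.IsGloballyGenerated E)
    (hF : Subsingleton (Coh.HH X F 1)) : Subsingleton (Coh.HH X (CohB1.tensorMod E F) 1) := by
  obtain ⟨b, π, hπ⟩ := Groth.L02.Quot.exists_epi_free_of_gg hE hgg
  haveI := hπ
  haveI := Groth.L18.RelCounit.epi_tensorMap_right π F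
  haveI : Subsingleton (Coh.HH X (CohB1.tensorMod (∐ fun _ : Fin b => Coh.structureModule X) F) 1) :=
    Groth.L03.ShStab.QuadricCoh.subsingleton_sigma_tensor _ _ 1 fun _ =>
      subsingleton_HH_of_iso (tensorUnitLeft F).symm 1 hF
  exact (Groth.L21.RedCurve.surjective_hmap_one_of_epi hd (tensorMap π (𝟙 F))).subsingleton

include hd in
/-- A quotient of a free module has no first cohomology when the structure module has none. -/
theorem subsingleton_h1_of_gg {E : X.Modules} (hE : Coh.IsCoh E) (hgg : Curv2.IsGloballyGenerated E)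
    (h1 : Subsingleton (Coh.HH X (Coh.structureModule X) 1)) : Subsingleton (Coh.HH X E 1) :=
  subsingleton_HH_of_iso (tensorUnitRight E) 1 (subsingleton_h1_gg_tensor hd hE hgg h1)

/-- Tensor products of quotients of free modules are such. -/
theorem gg_tensor {E F : X.Modules} (hE : Coh.IsCoh E) (hgg : Curv2.IsGloballyGenerated E)
    (hF : Curv2.IsGloballyGenerated F) : Curv2.IsGloballyGenerated (CohB1.tensorMod E F) := by
  obtain ⟨b, π, hπ⟩ := Groth.L02.Quot.exists_epi_free_of_gg hE hgg
  haveI := hπ
  haveI := Groth.L18.RelCounit.epi_tensorMap_right π F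
  exact Groth.L13.PointBlow.gg_of_epi (tensorMap π (𝟙 F)) (gg_sigma_tensor hF b)

theorem surjective_sections_of_subsingleton {S : ShortComplex X.Modules} (hS : S.ShortExact)
    (h1 : Subsingleton (Coh.HH X S.X₁ 1)) : Function.Surjective (S.g.val.app (op ⊤)).hom := fun y => by
  haveI := h1
  obtain ⟨c, hc⟩ := (Groth.L16.CohLinear.exact_hmap_delta hS 0 ((e0 S.X₃).symm y)).1 (Subsingleton.elim _ _)
  refine ⟨e0 S.X₂ c, ?_⟩
  have h2 := congrArg (e0 S.X₃) hc
  rw [AddEquiv.apply_symm_apply, e0_hmap] at h2
  exact h2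

include hd in
/-- Deformation ampleness is stable under extensions. -/
theorem of_shortExact (ω : X.Modules) (hO : Subsingleton (Coh.HH X (Coh.structureModule X) 1))
    {S : ShortComplex X.Modules} (hS : S.ShortExact) (hE : Coh.IsCoh S.X₁)
    (h₁ : Curv2.IsGloballyGenerated S.X₁ ∧ Subsingleton (Coh.HH X (CohB1.tensorMod S.X₁ ω) 1))
    (h₃ : Curv2.IsGloballyGenerated S.X₃ ∧ Subsingleton (Coh.HH X (CohB1.tensorMod S.X₃ ω) 1)) :
    Curv2.IsGloballyGenerated S.X₂ ∧ Subsingleton (Coh.HH X (CohB1.tensorMod S.X₂ ω) 1) := by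
  refine ⟨Groth.Agent.S10945.result X S hS
    (surjective_sections_of_subsingleton hS (subsingleton_h1_of_gg hd hE h₁.1 hO)) h₁.1 h₃.1, ?_⟩
  haveI := hS.epi_g
  obtain ⟨w, hex, hepi⟩ := Groth.L04.KSh.tensorRightF_map_exact ω S.f S.g S.zero hS.exact
  haveI := hepi
  exact subsingleton_h1_of_exact hd _ _ w hex h₁.2 h₃.2

include hd in
/-- Deformation ampleness passes to modules receiving a map with torsion cokernel. -/
theorem of_torsion_cokernel (ω : X.Modules) (hO : Subsingleton (Coh.HH X (Coh.structureModule X) 1))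
    {E₁ E₂ : X.Modules} (φ : E₁ ⟶ E₂) (hE : Coh.IsCoh E₁)
    (htors : ∀ x ∈ CohB1.support (cokernel φ), IsClosed ({x} : Set X))
    (h₁ : Curv2.IsGloballyGenerated E₁ ∧ Subsingleton (Coh.HH X (CohB1.tensorMod E₁ ω) 1)) :
    Curv2.IsGloballyGenerated E₂ ∧ Subsingleton (Coh.HH X (CohB1.tensorMod E₂ ω) 1) := by
  have hC : SuppClosed (cokernel φ) := fun x hx => by
    by_contra hn
    exact hx (htors x hn)
  let S : ShortComplex X.Modules :=
    ShortComplex.mk (Abelian.image.ι φ) (cokernel.π φ) (kernel.condition _)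
  have hS : S.ShortExact :=
    { exact := ShortComplex.exact_of_f_is_kernel _ (kernelIsKernel (cokernel.π φ)) }
  have hI : Subsingleton (Coh.HH X (Abelian.image φ) 1) :=
    haveI := subsingleton_h1_of_gg hd hE h₁.1 hO
    (Groth.L21.RedCurve.surjective_hmap_one_of_epi hd (Abelian.factorThruImage φ)).subsingleton
  refine ⟨Groth.Agent.S10945.result X S hS (surjective_sections_of_subsingleton hS hI)
    (Groth.L13.PointBlow.gg_of_epi (Abelian.factorThruImage φ) h₁.1)
    (Groth.L22.CurveDeg.isGloballyGenerated_of_suppClosed hC), ?_⟩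
  haveI : PreservesFiniteColimits (tensorRightF ω) :=
    haveI : PreservesColimits (tensorRightF ω) := Groth.L00.Tensor.preservesColimits_tensorRightF _
    PreservesColimitsOfSize.preservesFiniteColimits.{u, u} _
  haveI : (tensorRightF ω).Additive :=
    haveI := preservesBinaryBiproducts_of_preservesBinaryCoproducts (tensorRightF ω)
    Functor.additive_of_preservesBinaryBiproducts _
  haveI : Subsingleton (Coh.HH X ((tensorRightF ω).obj E₁) 1) := h₁.2
  refine (Groth.L21.RR.surjective_hmap_one_of_suppClosed hd ((tensorRightF ω).map φ) fun x hx => ?_).subsingleton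
  haveI : Subsingleton (((tensorRightF ω).obj (cokernel φ)).presheaf.stalk x) := by
    by_contra hn
    exact hx (htors x (Groth.L12.IntSh.support_tensor_subset (cokernel φ) ω hn))
  haveI : Subsingleton ((Groth.L21.Mod.stalkF X x).obj ((tensorRightF ω).obj (cokernel φ))) :=
    (inferInstance : Subsingleton (((tensorRightF ω).obj (cokernel φ)).presheaf.stalk x))
  exact ((Groth.L21.Mod.epi_iff_stalk_surjective (PreservesCokernel.iso (tensorRightF ω) φ).hom).1
    inferInstance x).subsingleton

include hd in
/-- Deformation ampleness of tensor powers. -/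
theorem tensorPow (ω : X.Modules) {E : X.Modules} (hE : Coh.IsCoh E)
    (h₁ : Curv2.IsGloballyGenerated E ∧ Subsingleton (Coh.HH X (CohB1.tensorMod E ω) 1)) :
    ∀ n : ℕ, 1 ≤ n → Curv2.IsGloballyGenerated (CohB1.tensorPow E n) ∧
      Subsingleton (Coh.HH X (CohB1.tensorMod (CohB1.tensorPow E n) ω) 1)
  | 0, hn => absurd hn (by omega)
  | 1, _ => ⟨Groth.L18.Ample.isGloballyGenerated_of_iso (tensorUnitLeft E).symm h₁.1,
      subsingleton_HH_of_iso (tensorIso (tensorUnitLeft E).symm (Iso.refl ω)) 1 h₁.2⟩
  | n + 2, _ => by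
    obtain ⟨hg, hv⟩ := tensorPow ω hE h₁ (n + 1) (by omega)
    refine ⟨Groth.L18.Ample.isGloballyGenerated_of_iso (tensorComm E (CohB1.tensorPow E (n + 1)))
      (gg_tensor hE h₁.1 hg), ?_⟩
    exact subsingleton_HH_of_iso
      ((tensorAssoc E (CohB1.tensorPow E (n + 1)) ω).symm ≪≫
        tensorIso (tensorComm E (CohB1.tensorPow E (n + 1))) (Iso.refl ω)) 1
      (subsingleton_h1_gg_tensor hd hE h₁.1 hv)

end Groth.L21.DefAmple
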